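import Cfsg.Agent.UTRec.Fld
import Cfsg.Agent.StdRank2.UTn
import Cfsg.Agent.Lib.NormalAbelian

/-!
# Recognition of the unitriangular group by root groups with non-degenerate commutators
-/

set_option autoImplicit false

namespace Cfsg.Agent.UTRec

open Matrix
open Cfsg.Agent.SylowL.Lev Cfsg.Agent.SylowL.UT

variable {m : ℕ} {F : Type*} [Field F]

theorem isPGroup_UT [Finite F] (m : ℕ) (p : ℕ) [Fact p.Prime] [CharP F p] : IsPGroup p (UT m F) := by
  have : Fintype F := Fintype.ofFinite F
  obtain ⟨n, -, hn⟩ := FiniteField.card F p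
  refine IsPGroup.of_card (n := n * (m * (m - 1) / 2)) ?_
  rw [StdRank2.UTn.Coord.card_UT, hn, pow_mul]

/-- The entries of a central element. -/
theorem N_center {g : UT m F} (hg : g ∈ Subgroup.center (UT m F)) {i j : Fin m} (h : N g i j ≠ 0) :
    (i : ℕ) = 0 ∧ (j : ℕ) + 1 = m := by
  have hij : i < j := by
    have := (N_mem g) i j h
    exact Fin.lt_def.2 (by omega)
  have hc : ∀ k l (hkl : k < l), N g * single k l (1 : F) = single k l (1 : F) * N g := by
    intro k l hkl
    rw [← N_el hkl]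
    exact commute_iff.1 ((Subgroup.mem_center_iff.1 hg (el k l hkl 1)).symm)
  constructor
  · by_contra h0
    have hk : (⟨0, by omega⟩ : Fin m) < i := Fin.lt_def.2 (by simp; omega)
    have h1 := congrFun (congrFun (hc _ i hk) ⟨0, by omega⟩) j
    rw [Matrix.single_mul_apply_same, one_mul, Matrix.mul_single_apply_of_ne] at h1
    · exact h h1.symm
    · exact hij.ne'
  · by_contra h0
    have hk : j < (⟨m - 1, by omega⟩ : Fin m) := Fin.lt_def.2 (by have := j.2; simp; omega)
    have h1 := congrFun (congrFun (hc j _ hk) i) ⟨m - 1, by omega⟩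
    rw [Matrix.mul_single_apply_same, mul_one, Matrix.single_mul_apply_of_ne] at h1
    · exact h h1
    · exact hij.ne

theorem hom_injective [Finite F] {G : Type*} [Group G] {x : Fin m → Fin m → F → G} (h : Rel x)
    {i0 i1 : Fin m} (hi0 : (i0 : ℕ) = 0) (hi1 : (i1 : ℕ) + 1 = m) (h01 : i0 < i1)
    (hx : ∀ a, x i0 i1 a = 1 → a = 0) : Function.Injective (hom h) := by
  classical
  obtain ⟨p, hp⟩ := CharP.exists F
  have : Fact p.Prime := ⟨CharP.char_is_prime F p⟩
  have hP := isPGroup_UT (F := F) m p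
  have : Finite (UT m F) := Finite.of_injective _ N_injective
  have : Group.IsNilpotent (UT m F) := hP.isNilpotent
  rw [← MonoidHom.ker_eq_bot_iff]
  by_contra hne
  have h1 := Cfsg.Agent.Lib.NormalAbelian.normal_inf_center_ne_bot (hom h).ker hne
  obtain ⟨⟨g, hg⟩, hg1⟩ := Subgroup.ne_bot_iff_exists_ne_one.1 h1
  have hg1 : g ≠ 1 := fun h2 => hg1 (Subtype.ext h2)
  have h2 : g = el i0 i1 h01 (N g i0 i1) := by
    apply N_injective
    rw [N_el]
    ext i j
    by_cases h3 : N g i j = 0
    · rw [h3]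
      by_cases hi : i0 = i ∧ i1 = j
      · obtain ⟨rfl, rfl⟩ := hi
        rw [Matrix.single_apply_same, h3]
      · rw [Matrix.single_apply_of_ne]
        exact hi
    · obtain ⟨h4, h5⟩ := N_center hg.2 h3
      have hi : i = i0 := Fin.ext (h4.trans hi0.symm)
      have hj : j = i1 := Fin.ext (by omega)
      rw [hi, hj]
      exact (Matrix.single_apply_same _ _ _).symm
  have h3 : hom h g = 1 := hg.1
  rw [h2, hom_el] at h3
  have h4 := hx _ h3
  apply hg1
  rw [h2, h4]
  apply N_injective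
  rw [N_el, N_one, Matrix.single_zero]

/-- **Recognition.**  A group `S` of order `q ^ (m choose 2)` with root groups `X i j` of order `q` with
non-degenerate commutators is `UT m F`, `|F| = q` (`m ≥ 4`). -/
theorem Roots.exists_equiv {G : Type*} [Group G] {m q : ℕ} {X : ℕ → ℕ → Subgroup G} (h : Roots m q X)
    (h4 : 4 ≤ m) (S : Subgroup G) (hS : ∀ i j, i < j → j < m → X i j ≤ S)
    (hcard : Nat.card S = q ^ (m * (m - 1) / 2)) :
    ∃ (F : Type) (_ : Field F) (_ : Finite F), Nat.card F = q ∧ Nonempty (S ≃* UT m F) := by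
  classical
  obtain ⟨F, iF, iFi, x, hF, hrel, hX⟩ := h.exists_rel h4
  refine ⟨F, iF, iFi, hF, ?_⟩
  have : Fintype F := Fintype.ofFinite F
  have hcF : Nat.card (UT m F) = q ^ (m * (m - 1) / 2) := by
    rw [StdRank2.UTn.Coord.card_UT, ← Nat.card_eq_fintype_card, hF]
  have h0n : (⟨0, by omega⟩ : Fin m) < ⟨m - 1, by omega⟩ := Fin.lt_def.2 (by simp; omega)
  have hinj : Function.Injective (hom hrel) := by
    refine hom_injective hrel (i0 := ⟨0, by omega⟩) (i1 := ⟨m - 1, by omega⟩) rfl
      (show m - 1 + 1 = m by omega) h0n fun a ha => ?_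
    -- the root map is injective: its range has `q` elements
    have h1 : Function.Injective (x ⟨0, by omega⟩ ⟨m - 1, by omega⟩) := by
      have h2 := hX _ _ h0n
      have h3 : Nat.card (Set.range (x ⟨0, by omega⟩ ⟨m - 1, by omega⟩)) = Nat.card F := by
        rw [h2, hF]
        exact h.card 0 (m - 1) (by omega) (by omega)
      have h5 : Function.Surjective (Set.rangeFactorization (x ⟨0, by omega⟩ ⟨m - 1, by omega⟩)) :=
        Set.rangeFactorization_surjective
      have h6 := (Function.Surjective.bijective_of_nat_card_le h5 (by rw [h3])).1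
      intro a b hab
      exact h6 (Subtype.ext hab)
    have h2 : x ⟨0, by omega⟩ ⟨m - 1, by omega⟩ 0 = 1 := hrel.zero h0n
    exact h1 (ha.trans h2.symm)
  have hr : (hom hrel).range ≤ S := by
    rw [range_hom, Subgroup.closure_le]
    rintro g ⟨k, l, hkl, b, rfl⟩
    have h1 : x k l b ∈ (X k l : Set G) := by rw [← hX k l hkl]; exact ⟨b, rfl⟩
    exact hS k l hkl l.2 h1
  have e1 : UT m F ≃* (hom hrel).range := MonoidHom.ofInjective hinj
  have hr' : (hom hrel).range = S := by
    have : Finite S := Nat.finite_of_card_ne_zero (by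
      rw [hcard]; exact pow_ne_zero _ (by have := h.one_lt; omega))
    refine Subgroup.eq_of_le_of_card_ge hr ?_
    rw [← Nat.card_congr e1.toEquiv, hcF, hcard]
  exact ⟨((MulEquiv.subgroupCongr hr').symm.trans e1.symm)⟩

/-- The same for Sylow subgroups of `PSL(m, F)`. -/
theorem Roots.exists_sylow {G : Type*} [Group G] {m q : ℕ} {X : ℕ → ℕ → Subgroup G} (h : Roots m q X)
    (h4 : 4 ≤ m) (p a : ℕ) [Fact p.Prime] (hq : q = p ^ a) (S : Subgroup G)
    (hS : ∀ i j, i < j → j < m → X i j ≤ S) (hcard : Nat.card S = q ^ (m * (m - 1) / 2)) :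
    ∃ (F : Type) (_ : Field F) (_ : Fintype F), Fintype.card F = q ∧ CharP F p ∧
      ∀ P : Sylow p (Matrix.ProjectiveSpecialLinearGroup (Fin m) F), Nonempty (S ≃* P) := by
  obtain ⟨F, iF, iFi, hF, ⟨e⟩⟩ := h.exists_equiv h4 S hS hcard
  have : Fintype F := Fintype.ofFinite F
  have hF' : Fintype.card F = q := by rw [← Nat.card_eq_fintype_card, hF]
  have hp : CharP F p := by
    obtain ⟨r, hr⟩ := CharP.exists F
    have : Fact r.Prime := ⟨CharP.char_is_prime F r⟩
    obtain ⟨n, hr', hn⟩ := FiniteField.card F r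
    have h1 : r ∣ p ^ a := by
      rw [← hq, ← hF', hn]
      exact dvd_pow_self r n.ne_zero
    have h2 : r = p := (Nat.prime_dvd_prime_iff_eq hr' Fact.out).1 (hr'.dvd_of_dvd_pow h1)
    exact h2 ▸ hr
  refine ⟨F, iF, this, hF', hp, fun P => ?_⟩
  obtain ⟨e'⟩ := Cfsg.Agent.SylowL.SylowPSL.sylow_equiv p P
  exact ⟨e.trans e'.symm⟩

end Cfsg.Agent.UTRec
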