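import Cfsg.Agent.UTRec.Hom

/-!
# Coordinates from non-degenerate commutators

`Roots m q X`: abelian groups `X i j` (`i < j < m`) of order `q`, commuting if `j ≠ k` and `i ≠ l`, with
`⁅X i j, X j k⁆ ≤ X i k` non-degenerate.  For `m ≥ 4` they are coordinatised by a field of order `q`.
-/

set_option autoImplicit false

open scoped commutatorElement

namespace Cfsg.Agent.UTRec

variable {G : Type*} [Group G]

structure Roots (m q : ℕ) (X : ℕ → ℕ → Subgroup G) : Prop where
  disj : ∀ i j k l, i < j → j < m → k < l → l < m → j ≠ k → i ≠ l →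
    ∀ a ∈ X i j, ∀ b ∈ X k l, a * b = b * a
  mem : ∀ i j k, i < j → j < k → k < m → ∀ a ∈ X i j, ∀ b ∈ X j k, ⁅a, b⁆ ∈ X i k
  nondeg : ∀ i j k, i < j → j < k → k < m → ∀ a ∈ X i j, ∀ b ∈ X j k, ⁅a, b⁆ = 1 → a = 1 ∨ b = 1
  card : ∀ i j, i < j → j < m → Nat.card (X i j) = q
  one_lt : 1 < q

namespace Roots

variable {m q : ℕ} {X : ℕ → ℕ → Subgroup G} (h : Roots m q X)
include h

theorem commute {i j : ℕ} (hij : i < j) (hj : j < m) {a b : G} (ha : a ∈ X i j) (hb : b ∈ X i j) :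
    a * b = b * a := h.disj i j i j hij hj hij hj hij.ne' hij.ne a ha b hb

theorem mul_left {i j k : ℕ} (hij : i < j) (hjk : j < k) (hk : k < m) {a a' b : G}
    (ha : a ∈ X i j) (ha' : a' ∈ X i j) (hb : b ∈ X j k) : ⁅a * a', b⁆ = ⁅a, b⁆ * ⁅a', b⁆ := by
  have h1 := h.mem i j k hij hjk hk a' ha' b hb
  have h2 := h.mem i j k hij hjk hk a ha b hb
  have h3 := h.disj i j i k hij (hjk.trans hk) (hij.trans hjk) hk hij.ne' (hij.trans hjk).ne a ha _ h1
  have h4 := h.commute (hij.trans hjk) hk h2 h1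
  rw [h4]
  rw [commutatorElement_def] at *
  calc a * a' * b * (a * a')⁻¹ * b⁻¹ = (a * (a' * b * a'⁻¹ * b⁻¹)) * b * a⁻¹ * b⁻¹ := by group
    _ = _ := by rw [h3, commutatorElement_def]; group

theorem mul_right {i j k : ℕ} (hij : i < j) (hjk : j < k) (hk : k < m) {a b b' : G}
    (ha : a ∈ X i j) (hb : b ∈ X j k) (hb' : b' ∈ X j k) : ⁅a, b * b'⁆ = ⁅a, b⁆ * ⁅a, b'⁆ := by
  have h1 := h.mem i j k hij hjk hk a ha b' hb'
  have h3 := h.disj i k j k (hij.trans hjk) hk hjk hk hjk.ne' (hij.trans hjk).ne _ h1 b hb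
  rw [commutatorElement_def] at *
  calc a * (b * b') * a⁻¹ * (b * b')⁻¹
      = (a * b * a⁻¹ * b⁻¹) * (b * (a * b' * a⁻¹ * b'⁻¹)) * b⁻¹ := by group
    _ = _ := by rw [← h3]; rw [commutatorElement_def]; group

theorem assoc {i j k l : ℕ} (hij : i < j) (hjk : j < k) (hkl : k < l) (hl : l < m) {a b c : G}
    (ha : a ∈ X i j) (hb : b ∈ X j k) (hc : c ∈ X k l) : ⁅⁅a, b⁆, c⁆ = ⁅a, ⁅b, c⁆⁆ := by
  have hk := hkl.trans hl
  have hj := hjk.trans hk
  have hab := h.mem i j k hij hjk hk a ha b hb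
  have hbc := h.mem j k l hjk hkl hl b hb c hc
  have h1 := h.disj i j k l hij hj hkl hl hjk.ne (hij.trans (hjk.trans hkl)).ne a ha c hc
  have h2 := h.disj i k j l (hij.trans hjk) hk (hjk.trans hkl) hl hjk.ne'
    (hij.trans (hjk.trans hkl)).ne _ hab _ hbc
  have habc := h.mem i k l (hij.trans hjk) hkl hl _ hab c hc
  have h3 := h.disj i l j l (hij.trans (hjk.trans hkl)) hl (hjk.trans hkl) hl
    (hjk.trans hkl).ne' (hij.trans (hjk.trans hkl)).ne _ habc _ hbc
  -- conjugate `b ∘ c` by `a`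
  have e1 : a * ⁅b, c⁆ * a⁻¹ = ⁅a, ⁅b, c⁆⁆ * ⁅b, c⁆ := by
    simp only [commutatorElement_def]; group
  have e2 : a * ⁅b, c⁆ * a⁻¹ = ⁅a, b⁆ * b * c * (⁅a, b⁆ * b)⁻¹ * c⁻¹ := by
    have h4 : a * c * a⁻¹ = c := by rw [h1]; group
    calc a * ⁅b, c⁆ * a⁻¹ = (a * b * a⁻¹) * (a * c * a⁻¹) * (a * b * a⁻¹)⁻¹ * (a * c * a⁻¹)⁻¹ := by
          simp only [commutatorElement_def]; group
      _ = _ := by rw [h4]; simp only [commutatorElement_def]; group
  have e3 : ⁅a, b⁆ * b * c * (⁅a, b⁆ * b)⁻¹ * c⁻¹ = ⁅⁅a, b⁆, c⁆ * ⁅b, c⁆ := by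
    calc ⁅a, b⁆ * b * c * (⁅a, b⁆ * b)⁻¹ * c⁻¹ = ⁅a, b⁆ * ⁅b, c⁆ * c * (⁅a, b⁆)⁻¹ * c⁻¹ := by
          rw [commutatorElement_def b c]; group
      _ = ⁅b, c⁆ * (⁅a, b⁆ * c * (⁅a, b⁆)⁻¹ * c⁻¹) := by rw [h2]; group
      _ = ⁅b, c⁆ * ⁅⁅a, b⁆, c⁆ := by rw [← commutatorElement_def]
      _ = _ := h3.symm
  have := e1.symm.trans (e2.trans e3)
  exact (mul_right_cancel this).symm

/-- Compatible unit elements. -/
theorem exists_units : ∃ u : ℕ → ℕ → G,
    (∀ i j, i < j → j < m → u i j ∈ X i j) ∧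
    (∀ i j k, i < j → j < k → k < m → ⁅u i j, u j k⁆ = u i k) ∧
    (∀ i j, i < j → j < m → u i j ≠ 1) := by
  classical
  have hs : ∀ i, ∃ s : G, i + 1 < m → s ∈ X i (i + 1) ∧ s ≠ 1 := by
    intro i
    by_cases hi : i + 1 < m
    · have h1 : 1 < Nat.card (X i (i + 1)) := by
        rw [h.card i (i + 1) (Nat.lt_succ_self i) hi]
        exact h.one_lt
      have : Finite (X i (i + 1)) := Nat.finite_of_card_ne_zero (by omega)
      have : Nontrivial (X i (i + 1)) := Finite.one_lt_card_iff_nontrivial.1 h1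
      obtain ⟨⟨s, hs⟩, hs1⟩ := exists_ne (1 : X i (i + 1))
      have hs1 : s ≠ 1 := fun h2 => hs1 (Subtype.ext h2)
      exact ⟨s, fun _ => ⟨hs, hs1⟩⟩
    · exact ⟨1, fun h1 => absurd h1 hi⟩
  choose s hs using hs
  let u : ℕ → ℕ → G := fun i j => Nat.rec (1 : G) (fun j v => if j = i then s i else ⁅v, s j⁆) j
  have hu : ∀ i j, u i (j + 1) = if j = i then s i else ⁅u i j, s j⁆ := fun i j => rfl
  have hu1 : ∀ i, u i (i + 1) = s i := fun i => by rw [hu, if_pos rfl]
  have hu2 : ∀ i j, i < j → u i (j + 1) = ⁅u i j, s j⁆ := fun i j hij => by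
    rw [hu, if_neg hij.ne']
  have hmem : ∀ i j, i < j → j < m → u i j ∈ X i j ∧ u i j ≠ 1 := by
    intro i j
    induction j with
    | zero => intro hij; exact absurd hij (Nat.not_lt_zero _)
    | succ j ih =>
      intro hij hj
      rcases Nat.lt_or_ge i j with hij' | hij'
      · obtain ⟨h1, h2⟩ := ih hij' (by omega)
        obtain ⟨h3, h4⟩ := hs j hj
        rw [hu2 i j hij']
        refine ⟨h.mem i j (j + 1) hij' (Nat.lt_succ_self j) hj _ h1 _ h3, fun h5 => ?_⟩
        rcases h.nondeg i j (j + 1) hij' (Nat.lt_succ_self j) hj _ h1 _ h3 h5 with h6 | h6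
        · exact h2 h6
        · exact h4 h6
      · have : j = i := by omega
        subst this
        rw [hu1]
        exact hs j hj
  refine ⟨u, fun i j hij hj => (hmem i j hij hj).1, ?_, fun i j hij hj => (hmem i j hij hj).2⟩
  intro i j k hij
  induction k with
  | zero => intro hjk; exact absurd hjk (Nat.not_lt_zero _)
  | succ k ih =>
    intro hjk hk
    rcases Nat.lt_or_ge j k with hjk' | hjk'
    · rw [hu2 j k hjk', hu2 i k (hij.trans hjk'), ← ih hjk' (by omega)]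
      exact (h.assoc hij hjk' (Nat.lt_succ_self k) hk (hmem i j hij (by omega)).1
        (hmem j k hjk' (by omega)).1 (hs k hk).1).symm
    · have : k = j := by omega
      subst this
      rw [hu1, hu2 i k hij]

/-- The transport to the last root group, right part. -/
def Rf (u : ℕ → ℕ → G) (n j : ℕ) (a : G) : G := if j = n then a else ⁅a, u j n⁆

/-- The transport to the last root group, left part. -/
def Lf (u : ℕ → ℕ → G) (i : ℕ) (b : G) : G := if i = 0 then b else ⁅u 0 i, b⁆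

end Roots

/-- Root groups with units. -/
structure URoots (m q : ℕ) (X : ℕ → ℕ → Subgroup G) (u : ℕ → ℕ → G) : Prop extends Roots m q X where
  umem : ∀ i j, i < j → j < m → u i j ∈ X i j
  umul : ∀ i j k, i < j → j < k → k < m → ⁅u i j, u j k⁆ = u i k
  une : ∀ i j, i < j → j < m → u i j ≠ 1

namespace URoots

open Roots

variable {m q n : ℕ} {X : ℕ → ℕ → Subgroup G} {u : ℕ → ℕ → G} (h : URoots m q X u) (hn : n + 1 = m)
include h hn

theorem Rf_mem {i j : ℕ} (hij : i < j) (hj : j < m) {a : G} (ha : a ∈ X i j) : Rf u n j a ∈ X i n := by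
  rw [Rf]
  split_ifs with h1
  · rw [← h1]; exact ha
  · exact h.mem i j n hij (by omega) (by omega) a ha _ (h.umem j n (by omega) (by omega))

theorem Lf_mem {i : ℕ} (hi : i < n) {b : G} (hb : b ∈ X i n) : Lf u i b ∈ X 0 n := by
  rw [Lf]
  split_ifs with h1
  · rw [← h1]; exact hb
  · exact h.mem 0 i n (by omega) hi (by omega) _ (h.umem 0 i (by omega) (by omega)) b hb

theorem Rf_mul {i j : ℕ} (hij : i < j) (hj : j < m) {a b : G} (ha : a ∈ X i j) (hb : b ∈ X i j) :
    Rf u n j (a * b) = Rf u n j a * Rf u n j b := by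
  rw [Rf, Rf, Rf]
  split_ifs with h1
  · rfl
  · exact h.mul_left hij (by omega : j < n) (by omega) ha hb (h.umem j n (by omega) (by omega))

theorem Lf_mul {i : ℕ} (hi : i < n) {a b : G} (ha : a ∈ X i n) (hb : b ∈ X i n) :
    Lf u i (a * b) = Lf u i a * Lf u i b := by
  rw [Lf, Lf, Lf]
  split_ifs with h1
  · rfl
  · exact h.mul_right (by omega : 0 < i) hi (by omega) (h.umem 0 i (by omega) (by omega)) ha hb

theorem Rf_eq_one {i j : ℕ} (hij : i < j) (hj : j < m) {a : G} (ha : a ∈ X i j)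
    (h1 : Rf u n j a = 1) : a = 1 := by
  rw [Rf] at h1
  split_ifs at h1 with h2
  · exact h1
  · rcases h.nondeg i j n hij (by omega) (by omega) a ha _ (h.umem j n (by omega) (by omega)) h1
      with h3 | h3
    · exact h3
    · exact absurd h3 (h.une j n (by omega) (by omega))

theorem Lf_eq_one {i : ℕ} (hi : i < n) {b : G} (hb : b ∈ X i n)
    (h1 : Lf u i b = 1) : b = 1 := by
  rw [Lf] at h1
  split_ifs at h1 with h2
  · exact h1
  · rcases h.nondeg 0 i n (by omega) hi (by omega) _ (h.umem 0 i (by omega) (by omega)) b hb h1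
      with h3 | h3
    · exact absurd h3 (h.une 0 i (by omega) (by omega))
    · exact h3

/-- `R_k (a ∘ b) = a ∘ R_k b`. -/
theorem Rf_comm {i j k : ℕ} (hij : i < j) (hjk : j < k) (hk : k < m) {a b : G} (ha : a ∈ X i j)
    (hb : b ∈ X j k) : Rf u n k ⁅a, b⁆ = ⁅a, Rf u n k b⁆ := by
  rw [Rf, Rf]
  split_ifs with h1
  · rfl
  · exact h.assoc hij hjk (by omega : k < n) (by omega) ha hb (h.umem k n (by omega) (by omega))

theorem Lf_comm {i j : ℕ} (hij : i < j) (hj : j < n) {a b : G} (ha : a ∈ X i j)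
    (hb : b ∈ X j n) : Lf u i ⁅a, b⁆ = ⁅Lf u i a, b⁆ := by
  rw [Lf, Lf]
  split_ifs with h1
  · rfl
  · exact (h.assoc (by omega : 0 < i) hij hj (by omega) (h.umem 0 i (by omega) (by omega)) ha hb).symm

/-- `L_i R_j a = R_j L_i a`. -/
theorem Rf_Lf {i j : ℕ} (hij : i < j) (hj : j < m) {a : G} (ha : a ∈ X i j) :
    Rf u n j (Lf u i a) = Lf u i (Rf u n j a) := by
  rw [Rf, Rf]
  split_ifs with h1
  · rfl
  · rw [h.Lf_comm hn hij (by omega) ha (h.umem j n (by omega) (by omega))]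

theorem Lf_mem' {i j : ℕ} (hij : i < j) (hj : j < m) {a : G} (ha : a ∈ X i j) :
    Lf u i a ∈ X 0 j := by
  rw [Lf]
  split_ifs with h1
  · rw [← h1]; exact ha
  · exact h.mem 0 i j (by omega) hij (by omega) _ (h.umem 0 i (by omega) (by omega)) a ha

theorem E_mem {i j : ℕ} (hij : i < j) (hj : j < m) {a : G} (ha : a ∈ X i j) :
    Lf u i (Rf u n j a) ∈ X 0 n := h.Lf_mem hn (by omega) (h.Rf_mem hn hij hj ha)

/-- The transport as a homomorphism. -/
def E {i j : ℕ} (hij : i < j) (hj : j < m) : X i j →* X 0 n :=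
  MonoidHom.mk' (fun a => ⟨Lf u i (Rf u n j a), h.E_mem hn hij hj a.2⟩) (by
    intro a b
    apply Subtype.ext
    change Lf u i (Rf u n j ((a : G) * b)) = Lf u i (Rf u n j a) * Lf u i (Rf u n j b)
    rw [h.Rf_mul hn hij hj a.2 b.2, h.Lf_mul hn (by omega) (h.Rf_mem hn hij hj a.2)
      (h.Rf_mem hn hij hj b.2)])

theorem E_bijective {i j : ℕ} (hij : i < j) (hj : j < m) : Function.Bijective (h.E hn hij hj) := by
  have hc : Nat.card (X 0 n) = q := h.card 0 n (by omega) (by omega)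
  have : Finite (X 0 n) := Nat.finite_of_card_ne_zero (by have := h.one_lt; omega)
  refine Function.Injective.bijective_of_nat_card_le ?_ (by rw [hc, h.card i j hij hj])
  rw [injective_iff_map_eq_one]
  intro a ha
  apply Subtype.ext
  have h1 : Lf u i (Rf u n j a) = 1 := congrArg Subtype.val ha
  exact h.Rf_eq_one hn hij hj a.2 (h.Lf_eq_one hn (by omega) (h.Rf_mem hn hij hj a.2) h1)

/-- The coordinates. -/
theorem exists_x : ∃ x : ℕ → ℕ → X 0 n → G, ∀ i j, i < j → j < m →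
    ∀ z, x i j z ∈ X i j ∧ Lf u i (Rf u n j (x i j z)) = z := by
  classical
  have h1 : ∀ i j : ℕ, ∀ z : X 0 n, ∃ a : G, i < j → j < m →
      a ∈ X i j ∧ Lf u i (Rf u n j a) = z := by
    intro i j z
    by_cases hij : i < j
    · by_cases hj : j < m
      · obtain ⟨a, ha⟩ := (h.E_bijective hn hij hj).2 z
        exact ⟨a, fun _ _ => ⟨a.2, congrArg Subtype.val ha⟩⟩
      · exact ⟨1, fun _ h2 => absurd h2 hj⟩
    · exact ⟨1, fun h2 => absurd h2 hij⟩
  choose x hx using h1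
  exact ⟨x, fun i j hij hj z => hx i j z hij hj⟩

theorem E_inj {i j : ℕ} (hij : i < j) (hj : j < m) {a b : G} (ha : a ∈ X i j) (hb : b ∈ X i j)
    (hab : Lf u i (Rf u n j a) = Lf u i (Rf u n j b)) : a = b := by
  have h1 := @(h.E_bijective hn hij hj).1 ⟨a, ha⟩ ⟨b, hb⟩ (Subtype.ext hab)
  exact congrArg Subtype.val h1

end URoots

/-- Root groups with units and coordinates. -/
structure XRoots (m q n : ℕ) (X : ℕ → ℕ → Subgroup G) (u : ℕ → ℕ → G) (x : ℕ → ℕ → X 0 n → G) : Prop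
    extends URoots m q X u where
  hn : n + 1 = m
  h4 : 4 ≤ m
  xmem : ∀ i j, i < j → j < m → ∀ z, x i j z ∈ X i j
  xE : ∀ i j, i < j → j < m → ∀ z, Roots.Lf u i (Roots.Rf u n j (x i j z)) = z

namespace XRoots

open Roots

variable {m q n : ℕ} {X : ℕ → ℕ → Subgroup G} {u : ℕ → ℕ → G} {x : ℕ → ℕ → X 0 n → G}
  (h : XRoots m q n X u x)
include h

theorem eq_x {i j : ℕ} (hij : i < j) (hj : j < m) {a : G} (ha : a ∈ X i j) {z : X 0 n}
    (hz : Lf u i (Rf u n j a) = z) : a = x i j z :=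
  h.E_inj h.hn hij hj ha (h.xmem i j hij hj z) (hz.trans (h.xE i j hij hj z).symm)

theorem x_mul {i j : ℕ} (hij : i < j) (hj : j < m) (z w : X 0 n) :
    x i j (z * w) = x i j z * x i j w := by
  have hn := h.hn
  symm
  refine h.eq_x hij hj (mul_mem (h.xmem i j hij hj z) (h.xmem i j hij hj w)) ?_
  rw [h.Rf_mul h.hn hij hj (h.xmem i j hij hj z) (h.xmem i j hij hj w),
    h.Lf_mul h.hn (by omega) (h.Rf_mem h.hn hij hj (h.xmem i j hij hj z))
      (h.Rf_mem h.hn hij hj (h.xmem i j hij hj w)), h.xE i j hij hj, h.xE i j hij hj]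
  rfl

theorem x_surj {i j : ℕ} (hij : i < j) (hj : j < m) {a : G} (ha : a ∈ X i j) :
    ∃ z, x i j z = a :=
  ⟨⟨Lf u i (Rf u n j a), h.E_mem h.hn hij hj ha⟩, (h.eq_x hij hj ha rfl).symm⟩

/-- `x_0n z = z`. -/
theorem x_last (z : X 0 n) : x 0 n z = z := by
  have hn := h.hn
  have h4 := h.h4
  symm
  refine h.eq_x (by omega) (by omega) z.2 ?_
  rw [Rf, if_pos rfl, Lf, if_pos rfl]

theorem Lf_x {i j : ℕ} (hij : i < j) (hj : j < m) (z : X 0 n) : Lf u i (x i j z) = x 0 j z := by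
  have hx := h.xmem i j hij hj z
  refine h.eq_x (by omega) hj (h.Lf_mem' h.hn hij hj hx) ?_
  rw [Lf, if_pos rfl, h.Rf_Lf h.hn hij hj hx, h.xE i j hij hj]

theorem Rf_x {i j : ℕ} (hij : i < j) (hj : j < m) (z : X 0 n) : Rf u n j (x i j z) = x i n z := by
  have hn := h.hn
  have hx := h.xmem i j hij hj z
  refine h.eq_x (by omega) (by omega) (h.Rf_mem h.hn hij hj hx) ?_
  rw [Rf, if_pos rfl, h.xE i j hij hj]

theorem x_u_right {i j k : ℕ} (hij : i < j) (hjk : j < k) (hk : k < m) (z : X 0 n) :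
    ⁅x i j z, u j k⁆ = x i k z := by
  have hn := h.hn
  have hx := h.xmem i j hij (by omega) z
  have hu := h.umem j k hjk hk
  refine h.eq_x (by omega) hk (h.mem i j k hij hjk hk _ hx _ hu) ?_
  rw [h.Rf_comm h.hn hij hjk hk hx hu]
  have h1 : Rf u n k (u j k) = u j n := by
    rw [Rf]
    split_ifs with h2
    · rw [h2]
    · exact h.umul j k n hjk (by omega) (by omega)
  rw [h1]
  have h3 := h.xE i j hij (by omega) z
  rw [Rf, if_neg (by omega)] at h3
  exact h3

theorem x_u_left {i j k : ℕ} (hij : i < j) (hjk : j < k) (hk : k < m) (z : X 0 n) :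
    ⁅u i j, x j k z⁆ = x i k z := by
  have hn := h.hn
  have hx := h.xmem j k hjk hk z
  have hu := h.umem i j hij (by omega)
  refine h.eq_x (by omega) hk (h.mem i j k hij hjk hk _ hu _ hx) ?_
  rw [h.Rf_comm h.hn hij hjk hk hu hx, h.Rf_x hjk hk,
    h.Lf_comm h.hn hij (by omega) hu (h.xmem j n (by omega) (by omega) z)]
  have h1 : Lf u i (u i j) = u 0 j := by
    rw [Lf]
    split_ifs with h2
    · rw [h2]
    · exact h.umul 0 i j (by omega) hij (by omega)
  rw [h1]
  have h3 := h.xE j n (by omega) (by omega) z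
  rw [Rf, if_pos rfl, Lf, if_neg (by omega)] at h3
  rw [h3]

/-- The product, defined by the joint `1`. -/
def prod (z w : X 0 n) : X 0 n :=
  ⟨⁅x 0 1 z, x 1 n w⁆, by
    have hn := h.hn
    have h4 := h.h4
    exact h.mem 0 1 n (by omega) (by omega) (by omega) _ (h.xmem 0 1 (by omega) (by omega) z) _
      (h.xmem 1 n (by omega) (by omega) w)⟩

theorem prod_joint {j : ℕ} (h0 : 0 < j) (hj : j < n) (z w : X 0 n) :
    ⁅x 0 j z, x j n w⁆ = h.prod z w := by
  have hn := h.hn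
  rcases Nat.lt_or_ge 1 j with h1 | h1
  · rw [← h.x_u_right (by omega : 0 < 1) h1 (by omega) z,
      h.assoc (by omega) h1 hj (by omega) (h.xmem 0 1 (by omega) (by omega) z)
        (h.umem 1 j h1 (by omega)) (h.xmem j n (by omega) (by omega) w),
      h.x_u_left h1 hj (by omega)]
    rfl
  · have : j = 1 := by omega
    subst this
    rfl

theorem x_comm {i j k : ℕ} (hij : i < j) (hjk : j < k) (hk : k < m) (z w : X 0 n) :
    ⁅x i j z, x j k w⁆ = x i k (h.prod z w) := by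
  have hn := h.hn
  have hx := h.xmem i j hij (by omega) z
  have hy := h.xmem j k hjk hk w
  refine h.eq_x (by omega) hk (h.mem i j k hij hjk hk _ hx _ hy) ?_
  rw [h.Rf_comm h.hn hij hjk hk hx hy, h.Rf_x hjk hk,
    h.Lf_comm h.hn hij (by omega) hx (h.xmem j n (by omega) (by omega) w), h.Lf_x hij (by omega),
    h.prod_joint (by omega) (by omega)]

theorem prod_assoc (z w v : X 0 n) : h.prod (h.prod z w) v = h.prod z (h.prod w v) := by
  have hn := h.hn
  have h4 := h.h4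
  apply Subtype.ext
  rw [← h.prod_joint (by omega : 0 < 2) (by omega), ← h.prod_joint (by omega : 0 < 1) (by omega),
    ← h.x_comm (by omega : 0 < 1) (by omega : 1 < 2) (by omega),
    ← h.x_comm (by omega : 1 < 2) (by omega : 2 < n) (by omega)]
  exact h.assoc (by omega : 0 < 1) (by omega : 1 < 2) (by omega : 2 < n) (by omega)
    (h.xmem 0 1 (by omega) (by omega) z) (h.xmem 1 2 (by omega) (by omega) w)
    (h.xmem 2 n (by omega) (by omega) v)

/-- The unit. -/
def unit : X 0 n := ⟨u 0 n, by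
  have hn := h.hn
  have h4 := h.h4
  exact h.umem 0 n (by omega) (by omega)⟩

theorem x_unit {i j : ℕ} (hij : i < j) (hj : j < m) : x i j h.unit = u i j := by
  have hn := h.hn
  symm
  refine h.eq_x hij hj (h.umem i j hij hj) ?_
  have h1 : Rf u n j (u i j) = u i n := by
    rw [Rf]
    split_ifs with h2
    · rw [h2]
    · exact h.umul i j n hij (by omega) (by omega)
  have h2 : Lf u i (u i n) = u 0 n := by
    rw [Lf]
    split_ifs with h2
    · rw [h2]
    · exact h.umul 0 i n (by omega) (by omega) (by omega)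
  rw [h1, h2]
  rfl

theorem unit_prod (z : X 0 n) : h.prod h.unit z = z := by
  have hn := h.hn
  have h4 := h.h4
  apply Subtype.ext
  rw [← h.prod_joint (by omega : 0 < 1) (by omega), h.x_unit (by omega) (by omega),
    h.x_u_left (by omega) (by omega) (by omega), h.x_last]

theorem prod_unit (z : X 0 n) : h.prod z h.unit = z := by
  have hn := h.hn
  have h4 := h.h4
  apply Subtype.ext
  rw [← h.prod_joint (by omega : 0 < 1) (by omega), h.x_unit (by omega) (by omega),
    h.x_u_right (by omega) (by omega) (by omega), h.x_last]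

theorem prod_mul (z w v : X 0 n) : h.prod z (w * v) = h.prod z w * h.prod z v := by
  have hn := h.hn
  have h4 := h.h4
  apply Subtype.ext
  change ⁅x 0 1 z, x 1 n (w * v)⁆ = ⁅x 0 1 z, x 1 n w⁆ * ⁅x 0 1 z, x 1 n v⁆
  rw [h.x_mul (by omega) (by omega)]
  exact h.mul_right (by omega) (by omega) (by omega) (h.xmem 0 1 (by omega) (by omega) z)
    (h.xmem 1 n (by omega) (by omega) w) (h.xmem 1 n (by omega) (by omega) v)

theorem mul_prod (z w v : X 0 n) : h.prod (z * w) v = h.prod z v * h.prod w v := by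
  have hn := h.hn
  have h4 := h.h4
  apply Subtype.ext
  change ⁅x 0 1 (z * w), x 1 n v⁆ = ⁅x 0 1 z, x 1 n v⁆ * ⁅x 0 1 w, x 1 n v⁆
  rw [h.x_mul (by omega) (by omega)]
  exact h.mul_left (by omega) (by omega) (by omega) (h.xmem 0 1 (by omega) (by omega) z)
    (h.xmem 0 1 (by omega) (by omega) w) (h.xmem 1 n (by omega) (by omega) v)

theorem x_eq_one {i j : ℕ} (hij : i < j) (hj : j < m) {z : X 0 n} (hz : x i j z = 1) : z = 1 := by
  have hn := h.hn
  apply Subtype.ext
  rw [← h.xE i j hij hj z, hz]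
  have h1 : Lf u i (Rf u n j (1 : G)) = ((h.E h.hn hij hj) 1 : X 0 n) := rfl
  rw [h1, map_one]

theorem prod_eq_one {z w : X 0 n} (hzw : h.prod z w = 1) : z = 1 ∨ w = 1 := by
  have hn := h.hn
  have h4 := h.h4
  rcases h.nondeg 0 1 n (by omega) (by omega) (by omega) _ (h.xmem 0 1 (by omega) (by omega) z) _
    (h.xmem 1 n (by omega) (by omega) w) (congrArg Subtype.val hzw) with h1 | h1
  · exact Or.inl (h.x_eq_one (by omega) (by omega) h1)
  · exact Or.inr (h.x_eq_one (by omega) (by omega) h1)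

end XRoots

end Cfsg.Agent.UTRec
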