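import Cfsg.Agent.UTRec.Coord
import Mathlib.RingTheory.LittleWedderburn

/-!
# The coordinate field
-/

set_option autoImplicit false

open scoped commutatorElement

namespace Cfsg.Agent.UTRec

/-- A finite abelian group with an associative, bi-additive multiplication with unit and without zero
divisors is the additive group of a field. -/
theorem exists_field {K : Type*} [Group K] [Finite K] (comm : ∀ a b : K, a * b = b * a)
    (p : K → K → K) (one : K)
    (hassoc : ∀ a b c, p (p a b) c = p a (p b c))
    (h1 : ∀ a, p one a = a) (h2 : ∀ a, p a one = a)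
    (hl : ∀ a b c, p a (b * c) = p a b * p a c)
    (hr : ∀ a b c, p (a * b) c = p a c * p b c)
    (hz : ∀ a b, p a b = 1 → a = 1 ∨ b = 1) (hone : one ≠ 1) :
    ∃ (F : Type) (_ : Field F) (_ : Finite F) (e : F ≃ K),
      (∀ a b, e (a + b) = e a * e b) ∧ (∀ a b, e (a * b) = p (e a) (e b)) := by
  let R := Additive K
  let iC : AddCommGroup R := { (inferInstance : AddGroup (Additive K)) with
    add_comm := fun a b => comm a.toMul b.toMul }
  let iM : Mul R := ⟨fun a b => Additive.ofMul (p a.toMul b.toMul)⟩
  let iO : One R := ⟨Additive.ofMul one⟩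
  have hl0 : ∀ a, p a 1 = 1 := fun a => by
    have := hl a 1 1
    rw [mul_one] at this
    exact (mul_eq_left.1 this.symm)
  have hr0 : ∀ a, p 1 a = 1 := fun a => by
    have := hr 1 1 a
    rw [mul_one] at this
    exact (mul_eq_left.1 this.symm)
  let iR : Ring R := { iC, iM, iO with
    mul_assoc := fun a b c => hassoc a.toMul b.toMul c.toMul
    one_mul := fun a => h1 a.toMul
    mul_one := fun a => h2 a.toMul
    left_distrib := fun a b c => hl a.toMul b.toMul c.toMul
    right_distrib := fun a b c => hr a.toMul b.toMul c.toMul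
    zero_mul := fun a => hr0 a.toMul
    mul_zero := fun a => hl0 a.toMul
    neg_add_cancel := fun a => iC.neg_add_cancel a
    zsmul := iC.zsmul
    zsmul_zero' := iC.zsmul_zero'
    zsmul_succ' := iC.zsmul_succ'
    zsmul_neg' := iC.zsmul_neg'
    sub_eq_add_neg := iC.sub_eq_add_neg }
  have : Nontrivial R := ⟨⟨(1 : R), (0 : R), fun h => hone h⟩⟩
  have : NoZeroDivisors R := ⟨fun {a b} h => hz a.toMul b.toMul h⟩
  have : IsDomain R := NoZeroDivisors.to_isDomain R
  have : Finite R := (inferInstance : Finite K)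
  let iF : Field R := (Finite.isDomain_to_isField R).toField
  let N := Nat.card K
  let f : Fin N ≃ R := (Finite.equivFin K).symm
  let : Field (Fin N) := Equiv.field f
  refine ⟨Fin N, Equiv.field f, inferInstance, f, fun a b => ?_, fun a b => ?_⟩
  · exact f.apply_symm_apply _
  · exact f.apply_symm_apply _

variable {G : Type*} [Group G]

/-- Non-degenerate root groups are coordinatised by a field. -/
theorem Roots.exists_rel {m q : ℕ} {X : ℕ → ℕ → Subgroup G} (h : Roots m q X) (h4 : 4 ≤ m) :
    ∃ (F : Type) (_ : Field F) (_ : Finite F) (x : Fin m → Fin m → F → G), Nat.card F = q ∧ Rel x ∧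
      ∀ i j : Fin m, i < j → Set.range (x i j) = X i j := by
  obtain ⟨u, hu1, hu2, hu3⟩ := h.exists_units
  have hU : URoots m q X u := { h with umem := hu1, umul := hu2, une := hu3 }
  obtain ⟨n, rfl⟩ : ∃ n, m = n + 1 := ⟨m - 1, by omega⟩
  obtain ⟨x, hx⟩ := hU.exists_x rfl
  have hX : XRoots (n + 1) q n X u x := { hU with
    hn := rfl
    h4 := h4
    xmem := fun i j hij hj z => (hx i j hij hj z).1
    xE := fun i j hij hj z => (hx i j hij hj z).2 }
  have hc : Nat.card (X 0 n) = q := h.card 0 n (by omega) (by omega)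
  have : Finite (X 0 n) := Nat.finite_of_card_ne_zero (by have := h.one_lt; omega)
  obtain ⟨F, iF, iFi, e, he1, he2⟩ := exists_field (K := X 0 n)
    (fun a b => Subtype.ext (h.commute (by omega : 0 < n) (by omega) a.2 b.2))
    hX.prod hX.unit hX.prod_assoc hX.unit_prod hX.prod_unit hX.prod_mul hX.mul_prod
    (fun a b => hX.prod_eq_one) (fun h1 => hu3 0 n (by omega) (by omega) (congrArg Subtype.val h1))
  refine ⟨F, iF, iFi, fun i j a => x i j (e a), by rw [Nat.card_congr e, hc], ⟨?_, ?_, ?_⟩, ?_⟩
  · intro i j hij a b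
    have hij' : (i : ℕ) < j := hij
    change x i j (e (a + b)) = _
    rw [he1, hX.x_mul hij' j.2]
  · intro i j k l hij hkl hjk hil a b
    exact h.disj i j k l hij j.2 hkl l.2 (fun h1 => hjk (Fin.ext h1)) (fun h1 => hil (Fin.ext h1)) _
      (hX.xmem i j hij j.2 _) _ (hX.xmem k l hkl l.2 _)
  · intro i j k hij hjk a b
    have h1 := hX.x_comm (show (i : ℕ) < j from hij) (show (j : ℕ) < k from hjk) k.2 (e a) (e b)
    change x i j (e a) * x j k (e b) = x i k (e (a * b)) * x j k (e b) * x i j (e a)
    rw [he2, ← h1, commutatorElement_def]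
    group
  · intro i j hij
    ext g
    constructor
    · rintro ⟨a, rfl⟩
      exact hX.xmem i j hij j.2 _
    · intro hg
      obtain ⟨z, hz⟩ := hX.x_surj (show (i : ℕ) < j from hij) j.2 hg
      exact ⟨e.symm z, by change x i j (e (e.symm z)) = g; rw [e.apply_symm_apply, hz]⟩

end Cfsg.Agent.UTRec
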