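import Mathlib
import Cfsg.Agent.SylowL.SylowPSL

/-!
# Recognition of the upper unitriangular groups by root group coordinates

`Rel x`: maps `x i j : F → G` (`i < j`) satisfying the commutator relations of the positive root groups
of type `A_{m-1}`.  Then there is a homomorphism `UT m F →* G` sending `1 + a e_ij` to `x i j a`.
-/

set_option autoImplicit false

namespace Cfsg.Agent.UTRec

open Cfsg.Agent.SylowL.Lev Cfsg.Agent.SylowL.UT

/-- The commutator relations of the positive root groups of type `A_{m-1}`. -/
structure Rel {m : ℕ} {F : Type*} [Field F] {G : Type*} [Group G]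
    (x : Fin m → Fin m → F → G) : Prop where
  add : ∀ i j, i < j → ∀ a b, x i j (a + b) = x i j a * x i j b
  comm : ∀ i j k l, i < j → k < l → j ≠ k → i ≠ l →
    ∀ a b, x i j a * x k l b = x k l b * x i j a
  mul : ∀ i j k, i < j → j < k →
    ∀ a b, x i j a * x j k b = x i k (a * b) * x j k b * x i j a

/-! ### Lists -/

theorem prod_map_mul {ι G : Type*} [Group G] (L : List ι) (f g : ι → G)
    (h : ∀ i j, Commute (f i) (g j)) :
    (L.map fun i => f i * g i).prod = (L.map f).prod * (L.map g).prod := by
  induction L with
  | nil => simp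
  | cons a L ih =>
    have h1 : Commute (g a) (L.map f).prod := by
      refine Commute.list_prod_right _ _ ?_
      intro y hy
      obtain ⟨i, -, rfl⟩ := List.mem_map.1 hy
      exact (h i a).symm
    rw [List.map_cons, List.prod_cons, ih, List.map_cons, List.prod_cons, List.map_cons,
      List.prod_cons]
    calc f a * g a * ((L.map f).prod * (L.map g).prod)
        = f a * (g a * (L.map f).prod) * (L.map g).prod := by group
      _ = f a * ((L.map f).prod * g a) * (L.map g).prod := by rw [h1.eq]
      _ = _ := by group

theorem prod_map_eq_of_ne {ι G : Type*} [Group G] (L : List ι) (hL : L.Nodup) (f : ι → G) (j : ι)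
    (hj : j ∈ L) (h : ∀ i, i ≠ j → f i = 1) : (L.map f).prod = f j := by
  induction L with
  | nil => exact absurd hj (List.not_mem_nil)
  | cons a L ih =>
    rw [List.nodup_cons] at hL
    rw [List.map_cons, List.prod_cons]
    by_cases haj : a = j
    · subst haj
      have h1 : (L.map f).prod = 1 := by
        apply List.prod_eq_one
        intro y hy
        obtain ⟨i, hi, rfl⟩ := List.mem_map.1 hy
        apply h
        rintro rfl
        exact hL.1 hi
      rw [h1, mul_one]
    · rw [h a haj, one_mul]
      apply ih hL.2
      rcases List.mem_cons.1 hj with h2 | h2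
      · exact absurd h2.symm haj
      · exact h2

variable {m : ℕ} {F : Type*} [Field F] {G : Type*} [Group G] {x : Fin m → Fin m → F → G}

/-- The product of a row. -/
def row (x : Fin m → Fin m → F → G) (i : Fin m) (v : Fin m → F) : G :=
  ((List.finRange m).map fun j => if i < j then x i j (v j) else 1).prod

namespace Rel

variable (h : Rel x)
include h

theorem zero {i j : Fin m} (hij : i < j) : x i j 0 = 1 := by
  have h1 := h.add i j hij 0 0
  rw [add_zero] at h1
  exact (mul_eq_left.1 h1.symm)

theorem mul' {i j k : Fin m} (hij : i < j) (hjk : j < k) (a b : F) :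
    x i j a * x j k b = x j k b * x i j a * x i k (a * b) := by
  have h1 := h.comm i k j k (hij.trans hjk) hjk hjk.ne' (hij.trans hjk).ne (a * b) b
  have h2 := h.comm i k i j (hij.trans hjk) hij (hij.trans hjk).ne' hij.ne (a * b) a
  rw [h.mul i j k hij hjk, h1, mul_assoc, h2, mul_assoc]

theorem comm_row {i j k : Fin m} (hij : i < j) (hik : i < k) (a b : F) :
    Commute (x i j a) (x i k b) := h.comm i j i k hij hik hij.ne' hik.ne a b

theorem row_add (i : Fin m) (v w : Fin m → F) : row x i (v + w) = row x i v * row x i w := by
  rw [row, row, row, ← prod_map_mul]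
  · congr 1
    apply List.map_congr_left
    intro j _
    by_cases hj : i < j
    · rw [if_pos hj, if_pos hj, if_pos hj, Pi.add_apply, h.add i j hj]
    · rw [if_neg hj, if_neg hj, if_neg hj, one_mul]
  · intro j k
    by_cases hj : i < j
    · by_cases hk : i < k
      · rw [if_pos hj, if_pos hk]
        exact h.comm_row hj hk _ _
      · rw [if_neg hk]
        exact Commute.one_right _
    · rw [if_neg hj]
      exact Commute.one_left _

theorem row_single {i j : Fin m} (hij : i < j) (a : F) : row x i (Pi.single j a) = x i j a := by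
  rw [row, prod_map_eq_of_ne _ (List.nodup_finRange m) _ j (List.mem_finRange j), if_pos hij,
    Pi.single_eq_same]
  intro k hk
  by_cases hik : i < k
  · rw [if_pos hik, Pi.single_eq_of_ne hk, h.zero hik]
  · rw [if_neg hik]

theorem row_comm {i k l : Fin m} (hkl : k < l) (hil : i ≠ l) {v : Fin m → F} (hv : v k = 0) (b : F) :
    Commute (row x i v) (x k l b) := by
  refine Commute.list_prod_left _ _ ?_
  intro y hy
  obtain ⟨j, -, rfl⟩ := List.mem_map.1 hy
  by_cases hij : i < j
  · rw [if_pos hij]
    by_cases hjk : j = k
    · rw [hjk, hv, h.zero (hjk ▸ hij)]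
      exact Commute.one_left _
    · exact h.comm i j k l hij hkl hjk hil _ _
  · rw [if_neg hij]
    exact Commute.one_left _

theorem row_mul_of_lt {i k l : Fin m} (hik : i < k) (hkl : k < l) (v : Fin m → F) (b : F) :
    row x i v * x k l b = x k l b * row x i (v + Pi.single l (v k * b)) := by
  have h1 : v = Function.update v k 0 + Pi.single k (v k) := by
    ext j
    by_cases hj : j = k
    · subst hj
      rw [Pi.add_apply, Function.update_self, Pi.single_eq_same, zero_add]
    · rw [Pi.add_apply, Function.update_of_ne hj, Pi.single_eq_of_ne hj, add_zero]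
  have h2 : Commute (row x i (Function.update v k 0)) (x k l b) :=
    h.row_comm hkl (hik.trans hkl).ne (Function.update_self _ _ _) b
  rw [h.row_add i v, h.row_single (hik.trans hkl)]
  have h3 : row x i v = row x i (Function.update v k 0) * x i k (v k) := by
    conv_lhs => rw [h1]
    rw [h.row_add, h.row_single hik]
  rw [h3, mul_assoc, h.mul' hik hkl, ← mul_assoc, ← mul_assoc, h2.eq]
  simp only [mul_assoc]

/-- The product of the rows, in descending order. -/
theorem rows_mul_of_lt {k l : Fin m} (hkl : k < l) (b : F) (L : List (Fin m)) (hL : ∀ i ∈ L, i < k)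
    (A : Fin m → Fin m → F) :
    (L.map fun i => row x i (A i)).prod * x k l b
      = x k l b * (L.map fun i => row x i (A i + Pi.single l (A i k * b))).prod := by
  induction L with
  | nil => simp
  | cons a L ih =>
    rw [List.map_cons, List.prod_cons, List.map_cons, List.prod_cons, mul_assoc,
      ih fun i hi => hL i (List.mem_cons_of_mem _ hi), ← mul_assoc,
      h.row_mul_of_lt (hL a List.mem_cons_self) hkl, mul_assoc]

theorem rows_mul {k l : Fin m} (hkl : k < l) (b : F) (L : List (Fin m)) (hL : L.Pairwise (· > ·))
    (hk : k ∈ L) (A : Fin m → Fin m → F) (hA : ∀ i, k < i → A i k = 0) (hAk : A k k = 1) :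
    (L.map fun i => row x i (A i)).prod * x k l b
      = (L.map fun i => row x i (A i + Pi.single l (A i k * b))).prod := by
  induction L with
  | nil => exact absurd hk List.not_mem_nil
  | cons a L ih =>
    rw [List.pairwise_cons] at hL
    rw [List.map_cons, List.prod_cons, List.map_cons, List.prod_cons, mul_assoc]
    by_cases hak : a = k
    · subst hak
      rw [h.rows_mul_of_lt hkl b L hL.1, ← mul_assoc, hAk, one_mul, h.row_add a,
        h.row_single hkl]
    · have h1 : k ∈ L := by
        rcases List.mem_cons.1 hk with h2 | h2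
        · exact absurd h2.symm hak
        · exact h2
      rw [ih hL.2 h1, hA a (hL.1 k h1), zero_mul, Pi.single_zero, add_zero]

end Rel

/-- The elementary matrix. -/
def el (k l : Fin m) (hkl : k < l) (b : F) : UT m F :=
  mk (Matrix.single k l b) (by
    rw [mem_lev]
    intro i j hij
    by_cases h : k = i ∧ l = j
    · rw [← h.1, ← h.2]
      exact hkl
    · rw [Matrix.single_apply, if_neg h] at hij
      exact absurd rfl hij)

theorem N_el {k l : Fin m} (hkl : k < l) (b : F) : N (el k l hkl b) = Matrix.single k l b :=
  N_mk _ _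

/-- The map. -/
def toFun (x : Fin m → Fin m → F → G) (g : UT m F) : G :=
  ((List.finRange m).reverse.map fun i => row x i (fun j => (1 + N g : Matrix _ _ F) i j)).prod

theorem pairwise_reverse : ((List.finRange m).reverse).Pairwise (· > ·) := by
  rw [List.pairwise_reverse]
  exact List.pairwise_lt_finRange m

theorem toFun_mul_el (h : Rel x) (g : UT m F) {k l : Fin m} (hkl : k < l) (b : F) :
    toFun x (g * el k l hkl b) = toFun x g * x k l b := by
  have h0 := h.rows_mul hkl b _ pairwise_reverse (List.mem_reverse.2 (List.mem_finRange k))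
    (fun i j => (1 + N g : Matrix _ _ F) i j) (by
      intro i hi
      rw [Matrix.add_apply, Matrix.one_apply_ne hi.ne', apply_eq_zero (N_mem g) (by
        rw [Fin.lt_def] at hi; omega), add_zero]) (by
      rw [Matrix.add_apply, Matrix.one_apply_eq, apply_eq_zero (N_mem g) (by omega), add_zero])
  rw [toFun, toFun, h0]
  congr 1
  apply List.map_congr_left
  intro i _
  congr 1
  ext j
  rw [N_mul, N_el]
  have h1 : (1 + (N g + Matrix.single k l b + N g * Matrix.single k l b) : Matrix (Fin m) (Fin m) F)
      = (1 + N g) + (1 + N g) * Matrix.single k l b := by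
    rw [add_mul, one_mul]; abel
  rw [h1, Pi.add_apply, Matrix.add_apply]
  congr 1
  by_cases hj : j = l
  · subst hj
    rw [Matrix.mul_single_apply_same, Pi.single_eq_same]
  · rw [Matrix.mul_single_apply_of_ne _ _ _ _ _ hj, Pi.single_eq_of_ne hj]

/-- Elementary matrices, total version. -/
def elx (k l : Fin m) (b : F) : UT m F := if h : k < l then el k l h b else 1

theorem elx_of_lt {k l : Fin m} (h : k < l) (b : F) : elx k l b = el k l h b := dif_pos h

theorem N_row_list (i : Fin m) (v : Fin m → F) (L : List (Fin m)) (hL : L.Nodup) :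
    N ((L.map fun j => if i < j then elx i j (v j) else (1 : UT m F)).prod)
      = Matrix.of fun a b => if a = i ∧ i < b ∧ b ∈ L then v b else 0 := by
  induction L with
  | nil =>
    ext a b
    simp
  | cons c L ih =>
    rw [List.nodup_cons] at hL
    rw [List.map_cons, List.prod_cons, N_mul, ih hL.2]
    by_cases hc : i < c
    · rw [if_pos hc, elx_of_lt hc, N_el]
      have h1 : Matrix.single i c (v c)
          * (Matrix.of fun a b => if a = i ∧ i < b ∧ b ∈ L then v b else 0) = 0 := by
        ext a b
        rw [Matrix.zero_apply, Matrix.mul_apply]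
        apply Finset.sum_eq_zero
        intro d _
        rw [Matrix.of_apply, Matrix.single_apply]
        by_cases hd : c = d
        · rw [if_neg (c := d = i ∧ _) (by
            rintro ⟨h2, -⟩
            rw [hd, h2] at hc
            exact lt_irrefl _ hc), mul_zero]
        · rw [if_neg (fun h2 => hd h2.2), zero_mul]
      rw [h1, add_zero]
      ext a b
      rw [Matrix.add_apply, Matrix.of_apply, Matrix.of_apply, Matrix.single_apply]
      by_cases ha : a = i
      · subst ha
        by_cases hb : b = c
        · subst hb
          rw [if_pos ⟨rfl, rfl⟩, if_neg (fun h2 => hL.1 h2.2.2), add_zero,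
            if_pos ⟨rfl, hc, List.mem_cons_self⟩]
        · rw [if_neg (fun h2 => hb h2.2.symm), zero_add]
          congr 1
          simp [hb]
      · rw [if_neg (fun h2 => ha h2.1.symm), if_neg (fun h2 => ha h2.1), if_neg (fun h2 => ha h2.1),
          add_zero]
    · rw [if_neg hc, N_one, zero_mul, zero_add, add_zero]
      ext a b
      rw [Matrix.of_apply, Matrix.of_apply]
      congr 1
      apply propext
      constructor
      · rintro ⟨h1, h2, h3⟩
        exact ⟨h1, h2, List.mem_cons_of_mem _ h3⟩
      · rintro ⟨h1, h2, h3⟩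
        refine ⟨h1, h2, ?_⟩
        rcases List.mem_cons.1 h3 with h4 | h4
        · rw [h4] at h2
          exact absurd h2 hc
        · exact h4

theorem N_row (i : Fin m) (v : Fin m → F) :
    N (row elx i v) = Matrix.of fun a b => if a = i ∧ i < b then v b else 0 := by
  rw [row, N_row_list i v _ (List.nodup_finRange m)]
  ext a b
  simp

theorem N_rows_list (A : Fin m → Fin m → F) (L : List (Fin m)) (hL : L.Pairwise (· > ·)) :
    N ((L.map fun i => row elx i (A i)).prod)
      = Matrix.of fun a b => if a ∈ L ∧ a < b then A a b else 0 := by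
  induction L with
  | nil =>
    ext a b
    simp
  | cons c L ih =>
    rw [List.pairwise_cons] at hL
    rw [List.map_cons, List.prod_cons, N_mul, ih hL.2, N_row]
    have h1 : (Matrix.of fun a b => if a = c ∧ c < b then A c b else 0)
        * (Matrix.of fun a b => if a ∈ L ∧ a < b then A a b else 0) = 0 := by
      ext a b
      rw [Matrix.zero_apply, Matrix.mul_apply]
      apply Finset.sum_eq_zero
      intro d _
      rw [Matrix.of_apply, Matrix.of_apply]
      by_cases hd : d ∈ L
      · rw [if_neg (c := a = c ∧ c < d) (fun h2 => lt_asymm h2.2 (hL.1 d hd)), zero_mul]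
      · rw [if_neg (c := d ∈ L ∧ d < b) (fun h2 => hd h2.1), mul_zero]
    rw [h1, add_zero]
    ext a b
    rw [Matrix.add_apply, Matrix.of_apply, Matrix.of_apply, Matrix.of_apply]
    by_cases ha : a = c
    · subst ha
      by_cases hab : a < b
      · rw [if_pos ⟨rfl, hab⟩, if_neg (fun h2 => lt_irrefl _ (hL.1 a h2.1)), add_zero,
          if_pos ⟨List.mem_cons_self, hab⟩]
      · rw [if_neg (fun h2 => hab h2.2), if_neg (fun h2 => hab h2.2), if_neg (fun h2 => hab h2.2),
          add_zero]
    · rw [if_neg (fun h2 => ha h2.1), zero_add]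
      congr 1
      simp [ha]

theorem toFun_elx (g : UT m F) : toFun elx g = g := by
  apply N_injective
  rw [toFun, N_rows_list _ _ pairwise_reverse]
  ext a b
  rw [Matrix.of_apply]
  by_cases hab : a < b
  · rw [if_pos ⟨List.mem_reverse.2 (List.mem_finRange a), hab⟩, Matrix.add_apply,
      Matrix.one_apply_ne hab.ne, zero_add]
  · rw [if_neg (fun h => hab h.2), apply_eq_zero (N_mem g)]
    rw [Fin.lt_def] at hab
    omega

theorem mul_list {A B ι : Type*} [Group A] [Group B] (f : A → B) (y : ι → A) (y' : ι → B)
    (L : List ι) (h : ∀ i ∈ L, ∀ g, f (g * y i) = f g * y' i) (g : A) :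
    f (g * (L.map y).prod) = f g * (L.map y').prod := by
  induction L generalizing g with
  | nil => simp
  | cons a L ih =>
    rw [List.map_cons, List.prod_cons, List.map_cons, List.prod_cons, ← mul_assoc,
      ih (fun i hi => h i (List.mem_cons_of_mem _ hi)), h a List.mem_cons_self, mul_assoc]

theorem toFun_mul_row (h : Rel x) (g : UT m F) (i : Fin m) (v : Fin m → F) :
    toFun x (g * row elx i v) = toFun x g * row x i v := by
  rw [row, row]
  refine mul_list (toFun x) _ _ _ ?_ g
  intro j _ g
  by_cases hij : i < j
  · rw [if_pos hij, if_pos hij, elx_of_lt hij, toFun_mul_el h]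
  · rw [if_neg hij, if_neg hij, mul_one, mul_one]

theorem toFun_mul (h : Rel x) (g k : UT m F) : toFun x (g * k) = toFun x g * toFun x k := by
  have h1 := mul_list (toFun x)
    (fun i => row elx i (fun j => (1 + N k : Matrix _ _ F) i j))
    (fun i => row x i (fun j => (1 + N k : Matrix _ _ F) i j))
    (List.finRange m).reverse (fun i _ g => toFun_mul_row h g i _) g
  have h2 : ((List.finRange m).reverse.map
      fun i => row elx i (fun j => (1 + N k : Matrix _ _ F) i j)).prod = k := toFun_elx k
  rw [h2] at h1
  exact h1

/-- The homomorphism. -/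
def hom (h : Rel x) : UT m F →* G := MonoidHom.mk' (toFun x) (toFun_mul h)

theorem hom_el (h : Rel x) {k l : Fin m} (hkl : k < l) (b : F) :
    hom h (el k l hkl b) = x k l b := by
  have h1 := toFun_mul_el h 1 hkl b
  rw [one_mul] at h1
  change toFun x (el k l hkl b) = _
  rw [h1]
  change hom h 1 * x k l b = _
  rw [map_one, one_mul]

theorem closure_el : Subgroup.closure {g : UT m F | ∃ k l, ∃ hkl : k < l, ∃ b, g = el k l hkl b} = ⊤ := by
  rw [eq_top_iff]
  intro g _
  rw [← toFun_elx g, toFun]
  apply Subgroup.list_prod_mem
  intro y hy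
  obtain ⟨i, -, rfl⟩ := List.mem_map.1 hy
  apply Subgroup.list_prod_mem
  intro z hz
  obtain ⟨j, -, rfl⟩ := List.mem_map.1 hz
  by_cases hij : i < j
  · rw [if_pos hij, elx_of_lt hij]
    exact Subgroup.subset_closure ⟨i, j, hij, _, rfl⟩
  · rw [if_neg hij]
    exact one_mem _

theorem range_hom (h : Rel x) :
    (hom h).range = Subgroup.closure {g | ∃ k l, k < l ∧ ∃ b, g = x k l b} := by
  rw [MonoidHom.range_eq_map, ← closure_el, MonoidHom.map_closure]
  congr 1
  ext g
  constructor
  · rintro ⟨_, ⟨k, l, hkl, b, rfl⟩, rfl⟩
    exact ⟨k, l, hkl, b, hom_el h hkl b⟩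
  · rintro ⟨k, l, hkl, b, rfl⟩
    exact ⟨_, ⟨k, l, hkl, b, rfl⟩, hom_el h hkl b⟩

end Cfsg.Agent.UTRec
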